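import Mathlib
import Cfsg.Prelude.Def_GeometricClasses

/-!
Clifford-theoretic basics for `Cfsg.Geo`: a commutative subalgebra of matrices stable under
conjugation by an irreducible primitive group is a field.
-/
set_option autoImplicit false
set_option maxHeartbeats 2000000

namespace CfsgLib.GeoClifford

open Matrix Cfsg.Geo
open scoped MatrixGroups

variable {ι : Type} [Fintype ι] [DecidableEq ι] {F : Type*} [Field F]

/-- `G` stabilises no decomposition into at least two parts of equal dimension. -/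
def IsPrimitiveLin (G : Subgroup (GL ι F)) : Prop :=
  ∀ (m t : ℕ) (D : Fin t → Submodule F (ι → F)), 2 ≤ t → IsMDecomposition m D →
    ¬ G ≤ decompositionStabilizer D

/-- `G` normalises the subalgebra `R`. -/
def ConjStable (G : Subgroup (GL ι F)) (R : Subalgebra F (Matrix ι ι F)) : Prop :=
  ∀ g ∈ G, ∀ x ∈ R, (g : Matrix ι ι F) * x * ((g⁻¹ : GL ι F) : Matrix ι ι F) ∈ R

lemma eq_top_of_invariant {G : Subgroup (GL ι F)} (hirr : ActsIrreducibly (matrixSet G))
    (W : Submodule F (ι → F)) (hne : W ≠ ⊥)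
    (hW : ∀ g ∈ G, ∀ v ∈ W, (g : Matrix ι ι F) *ᵥ v ∈ W) : W = ⊤ := by
  refine (hirr W ?_).resolve_left hne
  rintro _ ⟨g, hg, rfl⟩
  rw [Submodule.map_le_iff_le_comap]
  intro v hv
  simpa [Submodule.mem_comap] using hW g hg v hv

lemma exists_common_kernel [Nonempty ι] (s : Finset (Matrix ι ι F)) :
    (∀ x ∈ s, IsNilpotent x) → (∀ x ∈ s, ∀ y ∈ s, x * y = y * x) →
      ∃ v : ι → F, v ≠ 0 ∧ ∀ x ∈ s, x *ᵥ v = 0 := by
  classical
  induction s using Finset.induction_on with
  | empty =>
    intro _ _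
    exact ⟨fun _ => 1, fun h => one_ne_zero (congrFun h (Classical.arbitrary ι)), by simp⟩
  | insert a s ha ih =>
    intro hn hc
    obtain ⟨v, hv0, hv⟩ := ih (fun x hx => hn x (Finset.mem_insert_of_mem hx))
      (fun x hx y hy => hc x (Finset.mem_insert_of_mem hx) y (Finset.mem_insert_of_mem hy))
    obtain ⟨k, hk⟩ := hn a (Finset.mem_insert_self a s)
    classical
    have hex : ∃ j, a ^ j *ᵥ v = 0 := ⟨k, by simp [hk]⟩
    have h0 : Nat.find hex ≠ 0 := fun h => hv0 (by
      have := Nat.find_spec hex; rw [h] at this; simpa using this)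
    refine ⟨a ^ (Nat.find hex - 1) *ᵥ v, Nat.find_min hex (by omega), ?_⟩
    intro x hx
    rcases Finset.mem_insert.mp hx with rfl | hx'
    · rw [mulVec_mulVec, ← pow_succ', Nat.sub_add_cancel (by omega)]
      exact Nat.find_spec hex
    · have : x * a ^ (Nat.find hex - 1) = a ^ (Nat.find hex - 1) * x :=
        Commute.pow_right (hc x hx a (Finset.mem_insert_self a s)) _
      rw [mulVec_mulVec, this, ← mulVec_mulVec, hv x hx', mulVec_zero]

lemma nilpotent_eq_zero [Fintype F] [Nonempty ι] {G : Subgroup (GL ι F)}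
    (hirr : ActsIrreducibly (matrixSet G)) {R : Subalgebra F (Matrix ι ι F)}
    (hcomm : ∀ x ∈ R, ∀ y ∈ R, x * y = y * x) (hstab : ConjStable G R)
    {x : Matrix ι ι F} (hx : x ∈ R) (hn : IsNilpotent x) : x = 0 := by
  classical
  set W : Submodule F (ι → F) := ⨅ y : {y : Matrix ι ι F // y ∈ R ∧ IsNilpotent y},
    LinearMap.ker (Matrix.toLin' y.1) with hW
  have hne : W ≠ ⊥ := by
    obtain ⟨v, hv0, hv⟩ := exists_common_kernel
      (Finset.univ.filter (fun y : Matrix ι ι F => y ∈ R ∧ IsNilpotent y))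
      (fun y hy => (Finset.mem_filter.mp hy).2.2)
      (fun y hy z hz => hcomm y (Finset.mem_filter.mp hy).2.1 z (Finset.mem_filter.mp hz).2.1)
    rw [Submodule.ne_bot_iff]
    refine ⟨v, ?_, hv0⟩
    simp only [hW, Submodule.mem_iInf, LinearMap.mem_ker, Matrix.toLin'_apply]
    exact fun y => hv y.1 (Finset.mem_filter.mpr ⟨Finset.mem_univ _, y.2⟩)
  have htop : W = ⊤ := by
    refine eq_top_of_invariant hirr W hne ?_
    intro g hg v hv
    simp only [hW, Submodule.mem_iInf, LinearMap.mem_ker, Matrix.toLin'_apply] at hv ⊢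
    rintro ⟨y, hy, hyn⟩
    have h1 : ((g⁻¹ : GL ι F) : Matrix ι ι F) * y * (g : Matrix ι ι F) ∈ R := by
      simpa using hstab g⁻¹ (G.inv_mem hg) y hy
    have h2 : IsNilpotent (((g⁻¹ : GL ι F) : Matrix ι ι F) * y * (g : Matrix ι ι F)) := by
      obtain ⟨k, hk⟩ := hyn
      exact ⟨k, by rw [Units.conj_pow', hk, mul_zero, zero_mul]⟩
    have h3 := hv ⟨_, h1, h2⟩
    simp only at h3 ⊢
    have h4 := congrArg (fun w => (g : Matrix ι ι F) *ᵥ w) h3
    simpa [mulVec_mulVec, ← mul_assoc] using h4
  apply Matrix.toLin'.injective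
  rw [map_zero]
  apply LinearMap.ext
  intro v
  have hv : v ∈ W := htop ▸ Submodule.mem_top
  simp only [hW, Submodule.mem_iInf, LinearMap.mem_ker] at hv
  simpa using hv ⟨x, hx, hn⟩

lemma exists_idem_pow {M : Type*} [Monoid M] [Finite M] (x : M) :
    ∃ k, 0 < k ∧ x ^ k * x ^ k = x ^ k := by
  obtain ⟨i, j, hij, h⟩ : ∃ i j, i < j ∧ x ^ i = x ^ j := by
    obtain ⟨i, j, hne, h⟩ := Finite.exists_ne_map_eq_of_infinite (fun i : ℕ => x ^ i)
    rcases lt_or_gt_of_ne hne with hlt | hlt
    · exact ⟨i, j, hlt, h⟩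
    · exact ⟨j, i, hlt, h.symm⟩
  set d := j - i with hd
  have hstep : ∀ m, i ≤ m → x ^ (m + d) = x ^ m := by
    intro m hm
    have e : m + d = (m - i) + j := by omega
    rw [e, pow_add, ← h, ← pow_add, Nat.sub_add_cancel hm]
  have hmany : ∀ c m, i ≤ m → x ^ (m + c * d) = x ^ m := by
    intro c
    induction c with
    | zero => simp
    | succ c ih =>
      intro m hm
      rw [add_mul, one_mul, ← add_assoc, hstep _ (by omega), ih m hm]
  refine ⟨(i + 1) * d, Nat.mul_pos (by omega) (by omega), ?_⟩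
  rw [← pow_add]
  exact hmany _ _ (by nlinarith [show 1 ≤ d by omega])

lemma idem_eq_zero_or_one [Fintype F] [Nonempty ι] {G : Subgroup (GL ι F)}
    (hirr : ActsIrreducibly (matrixSet G)) (hprim : IsPrimitiveLin G)
    {R : Subalgebra F (Matrix ι ι F)}
    (hcomm : ∀ x ∈ R, ∀ y ∈ R, x * y = y * x) (hstab : ConjStable G R)
    {f : Matrix ι ι F} (hfR : f ∈ R) (hf : f * f = f) : f = 0 ∨ f = 1 := by
  classical
  by_contra hcon
  push Not at hcon
  set rk : Matrix ι ι F → ℕ := fun e => Module.finrank F (LinearMap.range (Matrix.toLin' e)) with hrk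
  obtain ⟨e0, he0, hmin⟩ := Finset.exists_min_image
    (Finset.univ.filter (fun e : Matrix ι ι F => e ∈ R ∧ e * e = e ∧ e ≠ 0)) rk
    ⟨f, Finset.mem_filter.mpr ⟨Finset.mem_univ _, hfR, hf, hcon.1⟩⟩
  obtain ⟨-, he0R, he0i, he0n⟩ := Finset.mem_filter.mp he0
  -- the conjugates of e0
  set cj : GL ι F → Matrix ι ι F → Matrix ι ι F :=
    fun g x => (g : Matrix ι ι F) * x * ((g⁻¹ : GL ι F) : Matrix ι ι F) with hcj
  have cj_mul : ∀ g x y, cj g x * cj g y = cj g (x * y) := by
    intro g x y; simp [hcj, mul_assoc]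
  have cj_cj : ∀ g h x, cj g (cj h x) = cj (g * h) x := by
    intro g h x; simp only [hcj, _root_.mul_inv_rev, Units.val_mul, mul_assoc]
  set O : Finset (Matrix ι ι F) := (Finset.univ : Finset G).image (fun g : G => cj g.1 e0) with hO
  have memO : ∀ e ∈ O, ∃ g ∈ G, e = cj g e0 := by
    intro e he
    obtain ⟨g, -, rfl⟩ := Finset.mem_image.mp he
    exact ⟨g, g.2, rfl⟩
  have Omem : ∀ g ∈ G, cj g e0 ∈ O :=
    fun g hg => Finset.mem_image.mpr ⟨⟨g, hg⟩, Finset.mem_univ _, rfl⟩
  have hrange : ∀ (g : GL ι F) x, LinearMap.range (Matrix.toLin' (cj g x)) =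
      (LinearMap.range (Matrix.toLin' x)).map (Matrix.toLin' (g : Matrix ι ι F)) := by
    intro g x
    have hs : LinearMap.range (Matrix.toLin' ((g⁻¹ : GL ι F) : Matrix ι ι F)) = ⊤ := by
      rw [LinearMap.range_eq_top]
      intro v
      exact ⟨(g : Matrix ι ι F) *ᵥ v, by simp [mulVec_mulVec]⟩
    rw [hcj]
    simp only [Matrix.toLin'_mul]
    rw [LinearMap.range_comp_of_range_eq_top _ hs, LinearMap.range_comp]
  have hinj : ∀ g : GL ι F, Function.Injective (Matrix.toLin' (g : Matrix ι ι F)) := by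
    intro g v w hvw
    have := congrArg (fun u => ((g⁻¹ : GL ι F) : Matrix ι ι F) *ᵥ u) hvw
    simpa [mulVec_mulVec] using this
  have hrkO : ∀ e ∈ O, rk e = rk e0 := by
    intro e he
    obtain ⟨g, -, rfl⟩ := memO e he
    show Module.finrank F (LinearMap.range (Matrix.toLin' (cj g e0))) =
      Module.finrank F (LinearMap.range (Matrix.toLin' e0))
    rw [hrange]
    exact (Submodule.equivMapOfInjective _ (hinj g) _).finrank_eq.symm
  have hOR : ∀ e ∈ O, e ∈ R ∧ e * e = e := by
    intro e he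
    obtain ⟨g, hg, rfl⟩ := memO e he
    exact ⟨hstab g hg e0 he0R, by rw [cj_mul, he0i]⟩
  have horth : ∀ a ∈ O, ∀ b ∈ O, a ≠ b → a * b = 0 := by
    intro a ha b hb hab
    have key : ∀ a ∈ O, ∀ b ∈ O, a * b ≠ 0 → a * b = a := by
      intro a ha b hb h0
      obtain ⟨haR, hai⟩ := hOR a ha
      obtain ⟨hbR, hbi⟩ := hOR b hb
      have hc : a * b = b * a := hcomm a haR b hbR
      have hid : (a * b) * (a * b) = a * b := by
        rw [mul_assoc, ← mul_assoc b, ← hc, mul_assoc a b b, hbi, ← mul_assoc, hai]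
      have hle : LinearMap.range (Matrix.toLin' (a * b)) ≤ LinearMap.range (Matrix.toLin' a) := by
        rw [Matrix.toLin'_mul]; exact LinearMap.range_comp_le_range _ _
      have heq := Submodule.eq_of_le_of_finrank_le hle (by
        have h1 := hmin (a * b) (Finset.mem_filter.mpr ⟨Finset.mem_univ _, R.mul_mem haR hbR, hid, h0⟩)
        have h2 := hrkO a ha
        simp only [hrk] at h1 h2
        omega)
      have h1 : (a * b) * a = a := by
        apply Matrix.toLin'.injective
        apply LinearMap.ext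
        intro v
        have hv : Matrix.toLin' a v ∈ LinearMap.range (Matrix.toLin' (a * b)) :=
          heq.symm ▸ LinearMap.mem_range_self _ v
        obtain ⟨w, hw⟩ := hv
        rw [Matrix.toLin'_mul (a * b) a, LinearMap.comp_apply, ← hw, ← LinearMap.comp_apply,
          ← Matrix.toLin'_mul, hid]
      rw [hc, mul_assoc, hai, ← hc] at h1
      exact h1
    by_contra h0
    have e1 := key a ha b hb h0
    have hc : a * b = b * a := hcomm a (hOR a ha).1 b (hOR b hb).1
    have e2 := key b hb a ha (hc ▸ h0)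
    exact hab (by rw [← e1, hc, e2])
  have cj_inj : ∀ g, Function.Injective (cj g) := by
    intro g x y hxy
    have := congrArg (cj g⁻¹) hxy
    rw [cj_cj, cj_cj, inv_mul_cancel] at this
    simpa [hcj] using this
  have hperm : ∀ g ∈ G, O.image (cj g) = O := by
    intro g hg
    refine Finset.eq_of_subset_of_card_le ?_ ?_
    · intro e he
      obtain ⟨e', he', rfl⟩ := Finset.mem_image.mp he
      obtain ⟨h, hh, rfl⟩ := memO e' he'
      rw [cj_cj]
      exact Omem _ (G.mul_mem hg hh)
    · rw [Finset.card_image_of_injective _ (cj_inj g)]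
  set u : Matrix ι ι F := ∑ e ∈ O, e with hu
  have hue : ∀ e ∈ O, u * e = e := by
    intro e he
    rw [hu, Finset.sum_mul, Finset.sum_eq_single e (fun b hb hbe => horth b hb e he hbe)
      (fun h => absurd he h), (hOR e he).2]
  have huu : u * u = u := by
    calc u * u = ∑ e ∈ O, u * e := by rw [← Finset.mul_sum]
      _ = u := Finset.sum_congr rfl hue
  have hucomm : ∀ g ∈ G, cj g u = u := by
    intro g hg
    calc cj g u = ∑ e ∈ O, cj g e := by
          simp only [hu, hcj, Finset.mul_sum, Finset.sum_mul]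
      _ = ∑ e ∈ O.image (cj g), e := (Finset.sum_image (f := fun e => e) (g := cj g) (fun a _ b _ h => cj_inj g h)).symm
      _ = u := by rw [hperm g hg]
  have e0O : e0 ∈ O := by simpa [hcj] using Omem 1 G.one_mem
  have hu1 : u = 1 := by
    have htop : LinearMap.range (Matrix.toLin' u) = ⊤ := by
      refine eq_top_of_invariant hirr _ ?_ ?_
      · intro hb
        rw [LinearMap.range_eq_bot, LinearEquiv.map_eq_zero_iff] at hb
        exact he0n (by rw [← hue e0 e0O, hb, zero_mul])
      · intro g hg v hv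
        obtain ⟨w, rfl⟩ := hv
        refine ⟨(g : Matrix ι ι F) *ᵥ w, ?_⟩
        have h := hucomm g hg
        have h' : u * (g : Matrix ι ι F) = (g : Matrix ι ι F) * u := by
          conv_lhs => rw [← h]
          simp [hcj, mul_assoc]
        simp [mulVec_mulVec, h']
    apply Matrix.toLin'.injective
    apply LinearMap.ext
    intro v
    obtain ⟨w, hw⟩ : v ∈ LinearMap.range (Matrix.toLin' u) := htop ▸ Submodule.mem_top
    rw [← hw, ← LinearMap.comp_apply, ← Matrix.toLin'_mul, huu]
    simp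
  set t := O.card
  set en : Fin t ≃ O := O.equivFin.symm
  set D : Fin t → Submodule F (ι → F) := fun i => LinearMap.range (Matrix.toLin' (en i : Matrix ι ι F)) with hD
  by_cases ht : 2 ≤ t
  · refine hprim (rk e0) t D ht ⟨ht, ?_, fun i => hrkO _ (en i).2, ?_, ?_⟩ ?_
    · rw [hrk, Nat.pos_iff_ne_zero]
      intro h0
      rw [Submodule.finrank_eq_zero, LinearMap.range_eq_bot, LinearEquiv.map_eq_zero_iff] at h0
      exact he0n h0
    · intro i
      rw [disjoint_iff_inf_le]
      rintro x ⟨hx1, hx2⟩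
      obtain ⟨w, rfl⟩ := hx1
      have hle : (⨆ (j) (_ : j ≠ i), D j) ≤ LinearMap.ker (Matrix.toLin' (en i : Matrix ι ι F)) := by
        refine iSup₂_le fun j hj => ?_
        rintro _ ⟨z, rfl⟩
        rw [LinearMap.mem_ker, ← LinearMap.comp_apply, ← Matrix.toLin'_mul,
          horth _ (en i).2 _ (en j).2 (fun h => hj (en.injective (Subtype.ext h.symm)))]
        simp
      have := LinearMap.mem_ker.mp (hle hx2)
      rw [← LinearMap.comp_apply, ← Matrix.toLin'_mul, (hOR _ (en i).2).2] at this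
      simpa using this
    · rw [eq_top_iff]
      intro v _
      have hv : v = ∑ e ∈ O, Matrix.toLin' e v := by
        rw [← LinearMap.sum_apply, ← map_sum, ← hu, hu1]; simp
      rw [hv]
      refine Submodule.sum_mem _ fun e he => ?_
      refine Submodule.mem_iSup_of_mem (en.symm ⟨e, he⟩) ?_
      simp only [Equiv.apply_symm_apply]
      exact LinearMap.mem_range_self _ v
    · intro g hg
      let π : O ≃ O :=
        Equiv.ofBijective (fun e => ⟨cj g e, (hperm g hg).le (Finset.mem_image_of_mem _ e.2)⟩)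
          (Finite.injective_iff_bijective.mp fun a b hab =>
            Subtype.ext (cj_inj g (congrArg Subtype.val hab)))
      refine ⟨(en.trans π).trans en.symm, fun i => ?_⟩
      simp only [hD, Equiv.trans_apply, Equiv.apply_symm_apply]
      exact (hrange g _).symm
  · have hcard : O = {e0} := by
      refine Finset.eq_singleton_iff_unique_mem.mpr ⟨e0O, fun e he => ?_⟩
      exact Finset.card_le_one.mp (by omega) e he e0 e0O
    have he1 : e0 = 1 := by rw [← hu1, hu, hcard, Finset.sum_singleton]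
    have hfr := hmin f (Finset.mem_filter.mpr ⟨Finset.mem_univ _, hfR, hf, hcon.1⟩)
    have hle : LinearMap.range (Matrix.toLin' f) = ⊤ := by
      refine Submodule.eq_of_le_of_finrank_le le_top ?_
      subst he1
      have hone : LinearMap.range (Matrix.toLin' (1 : Matrix ι ι F)) = ⊤ := by
        rw [LinearMap.range_eq_top]
        exact fun v => ⟨v, by simp⟩
      simp only [hrk] at hfr
      rw [hone] at hfr
      exact hfr
    refine hcon.2 ?_
    apply Matrix.toLin'.injective
    apply LinearMap.ext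
    intro v
    obtain ⟨w, hw⟩ : v ∈ LinearMap.range (Matrix.toLin' f) := hle ▸ Submodule.mem_top
    rw [← hw, ← LinearMap.comp_apply, ← Matrix.toLin'_mul, hf]
    simp

/-- A commutative subalgebra normalised by an irreducible primitive group is a field. -/
theorem exists_inv_of_conjStable [Fintype F] [Nonempty ι] {G : Subgroup (GL ι F)}
    (hirr : ActsIrreducibly (matrixSet G)) (hprim : IsPrimitiveLin G)
    {R : Subalgebra F (Matrix ι ι F)}
    (hcomm : ∀ x ∈ R, ∀ y ∈ R, x * y = y * x) (hstab : ConjStable G R)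
    {x : Matrix ι ι F} (hx : x ∈ R) (hx0 : x ≠ 0) : ∃ y ∈ R, x * y = 1 := by
  obtain ⟨k, hk, hid⟩ := exists_idem_pow x
  rcases idem_eq_zero_or_one hirr hprim hcomm hstab (R.pow_mem hx k) hid with h | h
  · exact absurd (nilpotent_eq_zero hirr hcomm hstab hx ⟨k, h⟩) hx0
  · refine ⟨x ^ (k - 1), R.pow_mem hx _, ?_⟩
    rw [← pow_succ', Nat.sub_add_cancel hk, h]

end CfsgLib.GeoClifford
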