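import Cfsg.Agent.GeoClifford.Field

/-!
Fixed spaces of elements of soluble irreducible primitive linear groups have dimension at most `3n/4`.
-/
set_option autoImplicit false

namespace CfsgLib.GeoClifford

open Matrix Cfsg.Geo
open scoped MatrixGroups commutatorElement

variable {ι : Type} [Fintype ι] [DecidableEq ι] {F : Type*} [Field F]

lemma commutator_mul_mul {M : Type*} [Group M] {b e b' e' : M} (h1 : Commute e b') (h2 : Commute e' b)
    (h3 : Commute e b) (h4 : Commute e' b') : ⁅b * e, b' * e'⁆ = ⁅b, b'⁆ * ⁅e, e'⁆ := by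
  have hb : Commute ⁅e, e'⁆ b⁻¹ := by
    rw [commutatorElement_def]
    exact (((h3.mul_left h2).mul_left h3.inv_left).mul_left h2.inv_left).inv_right
  have hb' : Commute ⁅e, e'⁆ b'⁻¹ := by
    rw [commutatorElement_def]
    exact (((h1.mul_left h4).mul_left h1.inv_left).mul_left h4.inv_left).inv_right
  calc ⁅b * e, b' * e'⁆ = b * (e * b') * e' * e⁻¹ * (b⁻¹ * e'⁻¹) * b'⁻¹ := by
        rw [commutatorElement_def]; group
    _ = b * (b' * e) * e' * e⁻¹ * (e'⁻¹ * b⁻¹) * b'⁻¹ := by rw [h1.eq, (h2.inv_inv.symm).eq]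
    _ = b * b' * (⁅e, e'⁆ * b⁻¹) * b'⁻¹ := by rw [commutatorElement_def]; group
    _ = b * b' * b⁻¹ * (⁅e, e'⁆ * b'⁻¹) := by rw [hb.eq]; group
    _ = ⁅b, b'⁆ * ⁅e, e'⁆ := by rw [hb'.eq, commutatorElement_def b b']; group

/-- The fixed space of a matrix. -/
def fixSpace (g : GL ι F) : Submodule F (ι → F) :=
  Module.End.eigenspace (Matrix.toLin' (g : Matrix ι ι F)) 1

lemma mem_fixSpace {g : GL ι F} {v : ι → F} :
    v ∈ fixSpace g ↔ (g : Matrix ι ι F) *ᵥ v = v := by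
  rw [fixSpace, Module.End.mem_eigenspace_iff, Matrix.toLin'_apply, one_smul]

/-- `A ≤ G` is normalised by `G`. -/
def NormSub (G A : Subgroup (GL ι F)) : Prop :=
  A ≤ G ∧ ∀ g ∈ G, ∀ a ∈ A, g * a * g⁻¹ ∈ A

lemma conjStable_adjoin {G A : Subgroup (GL ι F)} (hA : NormSub G A) :
    ConjStable G (Algebra.adjoin F (matrixSet A)) := by
  intro g hg x hx
  induction hx using Algebra.adjoin_induction with
  | mem x hx =>
    obtain ⟨a, ha, rfl⟩ := hx
    exact Algebra.subset_adjoin ⟨g * a * g⁻¹, hA.2 g hg a ha, by simp⟩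
  | algebraMap r =>
    have : (g : Matrix ι ι F) * algebraMap F (Matrix ι ι F) r * ((g⁻¹ : GL ι F) : Matrix ι ι F)
        = algebraMap F (Matrix ι ι F) r := by
      rw [← Algebra.commutes, mul_assoc, ← Units.val_mul, mul_inv_cancel, Units.val_one, mul_one]
    rw [this]; exact Subalgebra.algebraMap_mem _ r
  | add x y _ _ ihx ihy => rw [mul_add, add_mul]; exact Subalgebra.add_mem _ ihx ihy
  | mul x y _ _ ihx ihy =>
    have := Subalgebra.mul_mem _ ihx ihy
    simpa [mul_assoc] using this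

lemma adjoin_comm {A : Subgroup (GL ι F)} (hA : ∀ a ∈ A, ∀ b ∈ A, a * b = b * a) :
    ∀ x ∈ Algebra.adjoin F (matrixSet A), ∀ y ∈ Algebra.adjoin F (matrixSet A), x * y = y * x := by
  intro x hx y hy
  refine Algebra.commute_of_mem_adjoin_of_forall_mem_commute hy ?_
  rintro _ ⟨b, hb, rfl⟩
  refine (Algebra.commute_of_mem_adjoin_of_forall_mem_commute hx ?_).symm
  rintro _ ⟨a, ha, rfl⟩
  show (b : Matrix ι ι F) * a = a * b
  rw [← Units.val_mul, ← Units.val_mul, hA b hb a ha]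

variable [Fintype F]

lemma fixSpace_abelian [Nonempty ι] {G A : Subgroup (GL ι F)}
    (hirr : ActsIrreducibly (matrixSet G)) (hprim : IsPrimitiveLin G)
    (hA : NormSub G A) (hAc : ∀ a ∈ A, ∀ b ∈ A, a * b = b * a)
    {a : GL ι F} (ha : a ∈ A) (ha1 : a ≠ 1) : fixSpace a = ⊥ := by
  have hne : (a : Matrix ι ι F) - 1 ≠ 0 := fun h => ha1 (Units.ext (sub_eq_zero.mp h))
  obtain ⟨y, hyR, hy⟩ := exists_inv_of_conjStable hirr hprim (adjoin_comm hAc) (conjStable_adjoin hA)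
    (Subalgebra.sub_mem _ (Algebra.subset_adjoin ⟨a, ha, rfl⟩) (Subalgebra.one_mem _)) hne
  rw [Submodule.eq_bot_iff]
  intro v hv
  rw [mem_fixSpace] at hv
  have hy' : y * ((a : Matrix ι ι F) - 1) = 1 :=
    (adjoin_comm hAc _ hyR _ (Subalgebra.sub_mem _ (Algebra.subset_adjoin ⟨a, ha, rfl⟩)
      (Subalgebra.one_mem _))).trans hy
  rw [← one_mulVec v, ← hy', ← mulVec_mulVec, sub_mulVec, one_mulVec, hv, sub_self, mulVec_zero]

lemma two_mul_fixSpace_le [Nonempty ι] {G A : Subgroup (GL ι F)}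
    (hirr : ActsIrreducibly (matrixSet G)) (hprim : IsPrimitiveLin G)
    (hA : NormSub G A) (hAc : ∀ a ∈ A, ∀ b ∈ A, a * b = b * a)
    {g a : GL ι F} (hg : g ∈ G) (ha : a ∈ A) (hne : g * a ≠ a * g) :
    2 * Module.finrank F (fixSpace g) ≤ Fintype.card ι := by
  have hb : g * a * g⁻¹ ∈ A := hA.2 g hg a ha
  set d : Matrix ι ι F := ((g * a * g⁻¹ : GL ι F) : Matrix ι ι F) - a with hd
  have hdR : d ∈ Algebra.adjoin F (matrixSet A) :=
    Subalgebra.sub_mem _ (Algebra.subset_adjoin ⟨_, hb, rfl⟩) (Algebra.subset_adjoin ⟨a, ha, rfl⟩)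
  have hd0 : d ≠ 0 := fun h => hne (by
    have h' : g * a * g⁻¹ = a := Units.ext (sub_eq_zero.mp h)
    calc g * a = g * a * g⁻¹ * g := by group
      _ = a * g := by rw [h'])
  obtain ⟨y, hyR, hy⟩ := exists_inv_of_conjStable hirr hprim (adjoin_comm hAc) (conjStable_adjoin hA) hdR hd0
  have hy' : y * d = 1 := (adjoin_comm hAc _ hyR _ hdR).trans hy
  set W := fixSpace g
  have hinj : Function.Injective (Matrix.toLin' (a : Matrix ι ι F)) := by
    intro v w hvw
    have := congrArg (fun u => ((a⁻¹ : GL ι F) : Matrix ι ι F) *ᵥ u) hvw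
    simpa [mulVec_mulVec] using this
  have hdisj : W ⊓ W.map (Matrix.toLin' (a : Matrix ι ι F)) = ⊥ := by
    rw [Submodule.eq_bot_iff]
    rintro w ⟨hw, hw'⟩
    obtain ⟨v, hv, rfl⟩ := Submodule.mem_map.mp hw'
    rw [SetLike.mem_coe, mem_fixSpace, Matrix.toLin'_apply] at hw
    rw [mem_fixSpace] at hv
    have h1 : ((g * a * g⁻¹ : GL ι F) : Matrix ι ι F) *ᵥ v = (a : Matrix ι ι F) *ᵥ v := by
      conv_lhs => rw [← hv, mulVec_mulVec, ← Units.val_mul, inv_mul_cancel_right, Units.val_mul, ← mulVec_mulVec]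
      exact hw
    have h2 : d *ᵥ v = 0 := by rw [hd, sub_mulVec, h1, sub_self]
    have hv0 : v = 0 := by rw [← one_mulVec v, ← hy', ← mulVec_mulVec, h2, mulVec_zero]
    simp [hv0]
  have := Submodule.finrank_sup_add_finrank_inf_eq W (W.map (Matrix.toLin' (a : Matrix ι ι F)))
  rw [hdisj, finrank_bot, ← (Submodule.equivMapOfInjective _ hinj W).finrank_eq] at this
  have hle := Submodule.finrank_le (W ⊔ W.map (Matrix.toLin' (a : Matrix ι ι F)))
  rw [Module.finrank_fintype_fun_eq_card] at hle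
  omega

omit [Fintype F] in
lemma finrank_fixSpace_commutator (g x : GL ι F) :
    2 * Module.finrank F (fixSpace g) ≤ Fintype.card ι + Module.finrank F (fixSpace ⁅g, x⁆) := by
  set W := fixSpace g
  have hinj : Function.Injective (Matrix.toLin' (x : Matrix ι ι F)) := by
    intro v w hvw
    have := congrArg (fun u => ((x⁻¹ : GL ι F) : Matrix ι ι F) *ᵥ u) hvw
    simpa [mulVec_mulVec] using this
  have hle : W ⊓ W.map (Matrix.toLin' (x : Matrix ι ι F)) ≤ fixSpace ⁅g, x⁆ := by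
    rintro w ⟨hw, hw'⟩
    obtain ⟨v, hv, rfl⟩ := Submodule.mem_map.mp hw'
    rw [mem_fixSpace] at hv
    rw [SetLike.mem_coe, mem_fixSpace, Matrix.toLin'_apply] at hw
    rw [mem_fixSpace, Matrix.toLin'_apply, commutatorElement_def, mulVec_mulVec, ← Units.val_mul,
      inv_mul_cancel_right]
    have hgi : ((g⁻¹ : GL ι F) : Matrix ι ι F) *ᵥ v = v := by
      conv_lhs => rw [← hv]
      simp [mulVec_mulVec]
    rw [Units.val_mul, Units.val_mul, ← mulVec_mulVec, ← mulVec_mulVec, hgi, hw]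
  have h := Submodule.finrank_sup_add_finrank_inf_eq W (W.map (Matrix.toLin' (x : Matrix ι ι F)))
  rw [← (Submodule.equivMapOfInjective _ hinj W).finrank_eq] at h
  have h1 := Submodule.finrank_le (W ⊔ W.map (Matrix.toLin' (x : Matrix ι ι F)))
  rw [Module.finrank_fintype_fun_eq_card] at h1
  have h2 := Submodule.finrank_mono hle
  omega

omit [Fintype F] in
lemma normSub_centralizer {G A : Subgroup (GL ι F)} (hA : NormSub G A) :
    NormSub G (G ⊓ Subgroup.centralizer (A : Set (GL ι F))) := by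
  refine ⟨inf_le_left, fun g hg c hc => ?_⟩
  obtain ⟨hc1, hc2⟩ := Subgroup.mem_inf.mp hc
  refine Subgroup.mem_inf.mpr ⟨G.mul_mem (G.mul_mem hg hc1) (G.inv_mem hg), ?_⟩
  rw [Subgroup.mem_centralizer_iff] at hc2 ⊢
  intro a ha
  have h1 : g⁻¹ * a * g ∈ A := by simpa using hA.2 g⁻¹ (G.inv_mem hg) a ha
  have h2 := hc2 _ h1
  calc a * (g * c * g⁻¹) = g * ((g⁻¹ * a * g) * c) * g⁻¹ := by group
    _ = g * (c * (g⁻¹ * a * g)) * g⁻¹ := by rw [h2]
    _ = g * c * g⁻¹ * a := by group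

set_option maxHeartbeats 2000000 in
theorem four_mul_fixSpace_le [Nonempty ι] {G : Subgroup (GL ι F)} (hsol : Group.IsSolvable G)
    (hirr : ActsIrreducibly (matrixSet G)) (hprim : IsPrimitiveLin G)
    {g : GL ι F} (hg : g ∈ G) (hg1 : g ≠ 1) :
    4 * Module.finrank F (fixSpace g) ≤ 3 * Fintype.card ι := by
  classical
  have : Finite (GL ι F) := inferInstance
  obtain ⟨A, -, hAmax⟩ := Finite.exists_le_maximal
    (p := fun A : Subgroup (GL ι F) => NormSub G A ∧ ∀ a ∈ A, ∀ b ∈ A, a * b = b * a)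
    (a := ⊥) ⟨⟨bot_le, fun g _ a ha => by simp [Subgroup.mem_bot.mp ha]⟩,
      fun a ha b hb => by simp [Subgroup.mem_bot.mp ha, Subgroup.mem_bot.mp hb]⟩
  obtain ⟨hAn, hAc⟩ := hAmax.prop
  by_cases hcA : ∀ a ∈ A, g * a = a * g
  swap
  · push Not at hcA
    obtain ⟨a, ha, hne⟩ := hcA
    have := two_mul_fixSpace_le hirr hprim hAn hAc hg ha hne
    omega
  by_cases hgA : g ∈ A
  · rw [fixSpace_abelian hirr hprim hAn hAc hgA hg1]; simp
  set C := G ⊓ Subgroup.centralizer (A : Set (GL ι F)) with hC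
  have hCn : NormSub G C := normSub_centralizer hAn
  have hAC : A ≤ C := le_inf hAn.1 (fun a ha => Subgroup.mem_centralizer_iff.mpr fun b hb => hAc b hb a ha)
  have hgC : g ∈ C := Subgroup.mem_inf.mpr ⟨hg, Subgroup.mem_centralizer_iff.mpr fun a ha => (hcA a ha).symm⟩
  obtain ⟨E, -, hEmax⟩ := Finite.exists_le_maximal
    (p := fun E : Subgroup (GL ι F) => NormSub G E ∧ A ≤ E ∧ E ≤ C ∧ ∀ x ∈ E, ∀ y ∈ E, ⁅x, y⁆ ∈ A)
    (a := A) ⟨hAn, le_rfl, hAC, fun x hx y hy =>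
      A.mul_mem (A.mul_mem (A.mul_mem hx hy) (A.inv_mem hx)) (A.inv_mem hy)⟩
  obtain ⟨hEn, hAE, hEC, hEcomm⟩ := hEmax.prop
  set D := C ⊓ (G ⊓ Subgroup.centralizer (E : Set (GL ι F))) with hD
  have hDn : NormSub G D := ⟨inf_le_left.trans hCn.1, fun h hh d hd =>
    ⟨hCn.2 h hh d hd.1, (normSub_centralizer hEn).2 h hh d hd.2⟩⟩
  -- `D ≤ A`
  have hDA : D ≤ A := by
    by_contra hDA
    obtain ⟨k0, hk0⟩ := hsol.solvable
    set B : ℕ → Subgroup (GL ι F) := fun k => (derivedSeries G k).map G.subtype ⊓ D with hB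
    have hex : ∃ k, B k ≤ A := ⟨k0, by simp [hB, hk0]⟩
    have hf0 : Nat.find hex ≠ 0 := by
      intro h
      have := Nat.find_spec hex
      rw [h] at this
      refine hDA fun d hd => this ⟨?_, hd⟩
      exact Subgroup.mem_map.mpr ⟨⟨d, hDn.1 hd⟩, by simp, rfl⟩
    obtain ⟨j, hj⟩ := Nat.exists_eq_succ_of_ne_zero hf0
    have hBj : ¬ B j ≤ A := Nat.find_min hex (by omega)
    have hBc : ∀ x ∈ B j, ∀ y ∈ B j, ⁅x, y⁆ ∈ A := by
      intro x hx y hy
      have hspec := Nat.find_spec hex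
      rw [hj] at hspec
      refine hspec ⟨?_, ?_⟩
      · show _ ∈ Subgroup.map G.subtype (derivedSeries G (j + 1))
        rw [derivedSeries_succ, Subgroup.map_commutator]
        exact Subgroup.commutator_mem_commutator hx.1 hy.1
      · exact D.mul_mem (D.mul_mem (D.mul_mem hx.2 hy.2) (D.inv_mem hx.2)) (D.inv_mem hy.2)
    have hBn : NormSub G (B j) := ⟨inf_le_right.trans hDn.1, fun h hh b hb => by
      refine ⟨?_, hDn.2 h hh b hb.2⟩
      obtain ⟨b', hb', rfl⟩ := Subgroup.mem_map.mp hb.1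
      exact Subgroup.mem_map.mpr ⟨⟨h, hh⟩ * b' * ⟨h, hh⟩⁻¹,
        (derivedSeries_normal G j).conj_mem _ hb' _, rfl⟩⟩
    -- the product `B_j E`
    have hcm : ∀ b ∈ D, ∀ e ∈ E, e * b = b * e := fun b hb e he =>
      Subgroup.mem_centralizer_iff.mp hb.2.2 e he
    let P : Subgroup (GL ι F) :=
      { carrier := {x | ∃ b ∈ B j, ∃ e ∈ E, x = b * e}
        mul_mem' := by
          rintro _ _ ⟨b, hb, e, he, rfl⟩ ⟨b', hb', e', he', rfl⟩
          refine ⟨b * b', (B j).mul_mem hb hb', e * e', E.mul_mem he he', ?_⟩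
          rw [mul_assoc, ← mul_assoc e, hcm b' hb'.2 e he]; group
        one_mem' := ⟨1, (B j).one_mem, 1, E.one_mem, by simp⟩
        inv_mem' := by
          rintro _ ⟨b, hb, e, he, rfl⟩
          refine ⟨b⁻¹, (B j).inv_mem hb, e⁻¹, E.inv_mem he, ?_⟩
          rw [_root_.mul_inv_rev, hcm b⁻¹ (D.inv_mem hb.2) e⁻¹ (E.inv_mem he)] }
    have hPle : P ≤ E := by
      refine hEmax.2 ⟨⟨?_, ?_⟩, ?_, ?_, ?_⟩ (fun e he => ⟨1, (B j).one_mem, e, he, (one_mul e).symm⟩)
      · rintro _ ⟨b, hb, e, he, rfl⟩; exact G.mul_mem (hBn.1 hb) (hEn.1 he)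
      · rintro h hh _ ⟨b, hb, e, he, rfl⟩
        exact ⟨h * b * h⁻¹, hBn.2 h hh b hb, h * e * h⁻¹, hEn.2 h hh e he, by group⟩
      · exact fun a ha => ⟨1, (B j).one_mem, a, hAE ha, (one_mul a).symm⟩
      · rintro _ ⟨b, hb, e, he, rfl⟩; exact C.mul_mem hb.2.1 (hEC he)
      · rintro _ ⟨b, hb, e, he, rfl⟩ _ ⟨b', hb', e', he', rfl⟩
        have key : ⁅b * e, b' * e'⁆ = ⁅b, b'⁆ * ⁅e, e'⁆ :=
          commutator_mul_mul (hcm b' hb'.2 e he) (hcm b hb.2 e' he')
            (hcm b hb.2 e he) (hcm b' hb'.2 e' he')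
        rw [key]
        exact A.mul_mem (hBc b hb b' hb') (hEcomm e he e' he')
    -- `B_j A` is abelian, hence `B_j ≤ A`
    have hBE : B j ≤ E := fun b hb => hPle ⟨b, hb, 1, E.one_mem, (mul_one b).symm⟩
    let Q : Subgroup (GL ι F) :=
      { carrier := {x | ∃ b ∈ B j, ∃ a ∈ A, x = b * a}
        mul_mem' := by
          rintro _ _ ⟨b, hb, a, ha, rfl⟩ ⟨b', hb', a', ha', rfl⟩
          refine ⟨b * b', (B j).mul_mem hb hb', a * a', A.mul_mem ha ha', ?_⟩
          rw [mul_assoc, ← mul_assoc a, hcm b' hb'.2 a (hAE ha)]; group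
        one_mem' := ⟨1, (B j).one_mem, 1, A.one_mem, by simp⟩
        inv_mem' := by
          rintro _ ⟨b, hb, a, ha, rfl⟩
          refine ⟨b⁻¹, (B j).inv_mem hb, a⁻¹, A.inv_mem ha, ?_⟩
          rw [_root_.mul_inv_rev, hcm b⁻¹ (D.inv_mem hb.2) a⁻¹ (hAE (A.inv_mem ha))] }
    have hQle : Q ≤ A := by
      refine hAmax.2 ⟨⟨?_, ?_⟩, ?_⟩ (fun a ha => ⟨1, (B j).one_mem, a, ha, (one_mul a).symm⟩)
      · rintro _ ⟨b, hb, a, ha, rfl⟩; exact G.mul_mem (hBn.1 hb) (hAn.1 ha)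
      · rintro h hh _ ⟨b, hb, a, ha, rfl⟩
        exact ⟨h * b * h⁻¹, hBn.2 h hh b hb, h * a * h⁻¹, hAn.2 h hh a ha, by group⟩
      · rintro _ ⟨b, hb, a, ha, rfl⟩ _ ⟨b', hb', a', ha', rfl⟩
        have c1 : b * b' = b' * b := hcm b' hb'.2 b (hBE hb)
        have c2 : a * b' = b' * a := hcm b' hb'.2 a (hAE ha)
        have c3 : a' * b = b * a' := hcm b hb.2 a' (hAE ha')
        calc b * a * (b' * a') = b * (a * b') * a' := by group
          _ = (b * b') * (a * a') := by rw [c2]; group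
          _ = (b' * b) * (a' * a) := by rw [c1, hAc a ha a' ha']
          _ = b' * (a' * b) * a := by rw [c3]; group
          _ = b' * a' * (b * a) := by group
    exact hBj fun b hb => hQle ⟨b, hb, 1, A.one_mem, (mul_one b).symm⟩
  -- commutators
  obtain ⟨x, hx, hgx⟩ : ∃ x ∈ E, g * x ≠ x * g := by
    by_contra hcon
    push Not at hcon
    exact hgA (hDA ⟨hgC, hg, Subgroup.mem_centralizer_iff.mpr fun e he => (hcon e he).symm⟩)
  have hh1 : ⁅g, x⁆ ≠ 1 := fun h => hgx (commutatorElement_eq_one_iff_mul_comm.mp h)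
  have hhE : ⁅g, x⁆ ∈ E := by
    rw [commutatorElement_def]
    exact E.mul_mem (hEn.2 g hg x hx) (E.inv_mem hx)
  have h1 := finrank_fixSpace_commutator g x
  by_cases hhA : ⁅g, x⁆ ∈ A
  · rw [fixSpace_abelian hirr hprim hAn hAc hhA hh1, finrank_bot] at h1
    omega
  obtain ⟨y, hy, hhy⟩ : ∃ y ∈ E, ⁅g, x⁆ * y ≠ y * ⁅g, x⁆ := by
    by_contra hcon
    push Not at hcon
    exact hhA (hDA ⟨hEC hhE, hEn.1 hhE, Subgroup.mem_centralizer_iff.mpr fun e he => (hcon e he).symm⟩)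
  have h2 := finrank_fixSpace_commutator ⁅g, x⁆ y
  rw [fixSpace_abelian hirr hprim hAn hAc (hEcomm _ hhE y hy)
    (fun h => hhy (commutatorElement_eq_one_iff_mul_comm.mp h)), finrank_bot] at h2
  omega

end CfsgLib.GeoClifford
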